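import Mathlib.Topology.Compactification.OnePoint.ProjectiveLine
import Cfsg.Agent.Lib.Golay.PSL23

/-!
# The projective line over the field with 23 elements as the twenty-four points

* `act`: `GL(2, 23)` on the points;
* `neg`: `x ↦ -x`, normalising `L`, outside `M24`;
* `range_act`: the image is `L ∪ L neg`;
* `ker_act`: the kernel is the centre.
-/

set_option autoImplicit false
set_option maxRecDepth 20000

namespace Cfsg.Agent.J4PGL

open Cfsg Cfsg.Agent.Golay.Basic Cfsg.Agent.Golay.M24 Cfsg.Agent.Golay.PSL23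
open Cfsg.Agent.Golay
open scoped Pointwise

/-- The field with 23 elements. -/
abbrev F : Type := ZMod 23

instance : Fact (Nat.Prime 23) := ⟨by norm_num⟩

/-- The group. -/
abbrev GL23 : Type := GL (Fin 2) F

/-- The action on the points. -/
noncomputable def act : GL23 →* Equiv.Perm GolayPt :=
  (MulAction.toPermHom GL23 (OnePoint F) : GL23 →* Equiv.Perm (OnePoint F))

theorem act_none (g : GL23) :
    act g none = if g 1 0 = 0 then none else some (g 0 0 / g 1 0) := OnePoint.smul_infty_eq_ite g

theorem act_some (g : GL23) (x : F) :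
    act g (some x) = if g 1 0 * x + g 1 1 = 0 then none
      else some ((g 0 0 * x + g 0 1) / (g 1 0 * x + g 1 1)) :=
  OnePoint.smul_some_eq_ite (g := g) (k := x)

/-- The negation. -/
def neg : Equiv.Perm GolayPt := mulP (-1)

theorem neg_some (x : F) : neg (some x) = some (-x) := by
  show some (((-1 : Fˣ) : F) * x) = _
  rw [Units.val_neg, Units.val_one, neg_one_mul]

theorem neg_none : neg none = none := rfl

theorem neg_sq : neg * neg = 1 := Equiv.ext fun p => by
  cases p with
  | none => rfl
  | some x => rw [Equiv.Perm.mul_apply, neg_some, neg_some, neg_neg]; rfl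

theorem neg_inv : neg⁻¹ = neg := inv_eq_of_mul_eq_one_right neg_sq

theorem neg_transl : neg * transl * neg = transl⁻¹ := by
  refine eq_inv_of_mul_eq_one_left (Equiv.ext fun p => ?_)
  have ht : ∀ x : F, transl (some x) = some (x + 1) := fun x => by
    have := (transl_pow 1).1 x; rwa [pow_one, Nat.cast_one] at this
  cases p with
  | none => rfl
  | some x =>
    simp only [Equiv.Perm.mul_apply, ht, neg_some, Equiv.Perm.one_apply]
    congr 1; ring

theorem neg_projInv : neg * projInv * neg = projInv := by
  refine Equiv.ext fun p => ?_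
  have h : ∀ p : GolayPt, Option.map (fun y : F => -y) (projInv (Option.map (fun y : F => -y) p)) = projInv p := by
    decide +kernel
  have e : ∀ p, neg p = Option.map (fun y : F => -y) p := fun p => by
    cases p with
    | none => rfl
    | some x => exact neg_some x
  simp only [Equiv.Perm.mul_apply, e]
  exact h p

theorem neg_mulP (u : Fˣ) : neg * mulP u * neg = mulP u := by
  refine Equiv.ext fun p => ?_
  cases p with
  | none => rfl
  | some x => simp only [Equiv.Perm.mul_apply, mulP_some, neg_some]; congr 1; ring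

theorem neg_conj {σ : Equiv.Perm GolayPt} (h : σ ∈ L) : neg * σ * neg ∈ L := by
  refine Subgroup.closure_induction (p := fun σ _ => neg * σ * neg ∈ L) ?_ ?_ ?_ ?_ h
  · rintro g ((rfl | rfl) | ⟨u, hu, rfl⟩)
    · rw [neg_transl]; exact inv_mem (Subgroup.subset_closure (Or.inl (Or.inl rfl)))
    · rw [neg_projInv]; exact Subgroup.subset_closure (Or.inl (Or.inr rfl))
    · rw [neg_mulP]; exact Subgroup.subset_closure (Or.inr ⟨u, hu, rfl⟩)
  · rw [mul_one, neg_sq]; exact one_mem _
  · intro a b _ _ ha hb
    have e : neg * (a * b) * neg = (neg * a * neg) * (neg * b * neg) := by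
      simp only [mul_assoc, ← mul_assoc neg neg, neg_sq, one_mul]
    rw [e]; exact mul_mem ha hb
  · intro a _ ha
    have e : neg * a⁻¹ * neg = (neg * a * neg)⁻¹ := by
      simp only [mul_inv_rev, neg_inv, mul_assoc]
    rw [e]; exact inv_mem ha

theorem neg_not_mem : neg ∉ M24 := by
  intro h
  have key : ∀ b ∈ basisMasks.take 1, isCode (mask ((maskSet b).image (mulFun (-1 : F)))) = false := by
    decide +kernel
  have hb : (basisMasks.take 1).head (by simp [basisMasks]) ∈ basisMasks := by simp [basisMasks]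
  set b := (basisMasks.take 1).head (by simp [basisMasks])
  have hk := key b (List.head_mem _)
  have hs : maskSet b ∈ supports (golayCode : Set (GolayPt → ZMod 2)) :=
    mem_supports_iff.2 (by revert hk; simp only [b, basisMasks]; decide +kernel)
  have h2 : neg • maskSet b ∈ supports (golayCode : Set (GolayPt → ZMod 2)) := by
    rw [← (h : neg • codeSets = codeSets)]
    exact Set.smul_mem_smul_set hs
  rw [mem_supports_iff, Finset.smul_finset_def] at h2
  have e : ((neg • ·) : GolayPt → GolayPt) = mulFun (-1 : F) := by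
    funext p
    cases p with
    | none => rfl
    | some x => show neg (some x) = _; rw [neg_some]; simp [mulFun]
  rw [e, hk] at h2
  exact Bool.noConfusion h2

/-- An element of `GL(2, 23)` from its entries. -/
noncomputable def mkG (a b c d : F) (h : a * d - b * c ≠ 0) : GL23 :=
  Matrix.GeneralLinearGroup.mkOfDetNeZero !![a, b; c, d] (by rw [Matrix.det_fin_two_of]; exact h)

theorem act_transl : act (mkG 1 1 0 1 (by decide)) = transl := Equiv.ext fun p => by
  cases p with
  | none => rw [act_none]; rfl
  | some x =>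
    rw [act_some]
    have := (transl_pow 1).1 x
    rw [pow_one, Nat.cast_one] at this
    simp [mkG, this]

theorem act_mulP (u : Fˣ) : act (mkG u 0 0 1 (by simp)) = mulP u := Equiv.ext fun p => by
  cases p with
  | none => rw [act_none]; simp [mkG, mulP_none]
  | some x => rw [act_some]; simp [mkG, mulP_some]

theorem act_projInv : act (mkG 0 (-1) 1 0 (by decide)) = projInv := Equiv.ext fun p => by
  have h0 : ∀ x : F, (x = 0 → projInv (some x) = none) ∧
      (x ≠ 0 → ∃ y, projInv (some x) = some y ∧ y * x = -1) := by decide +kernel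
  cases p with
  | none => rw [act_none]; simp [mkG]; decide +kernel
  | some x =>
    rw [act_some]
    by_cases hx : x = 0
    · simp [mkG, hx, (h0 x).1 hx]; rw [← hx, (h0 x).1 hx]
    · obtain ⟨y, hy, hyx⟩ := (h0 x).2 hx
      simp [mkG, hx, hy]
      rw [div_eq_iff hx, hyx]

theorem L_le_range : L ≤ act.range := by
  rw [L, Subgroup.closure_le]
  rintro g ((rfl | rfl) | ⟨u, -, rfl⟩)
  · exact ⟨_, act_transl⟩
  · exact ⟨_, act_projInv⟩
  · exact ⟨_, act_mulP u⟩

theorem neg_mem_range : neg ∈ act.range := ⟨_, act_mulP (-1)⟩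

theorem scalar_of_fix {g : GL23} (h1 : act g none = none) (h2 : act g (some 0) = some 0)
    (h3 : act g (some 1) = some 1) : g 0 1 = 0 ∧ g 1 0 = 0 ∧ g 0 0 = g 1 1 := by
  have hc : g 1 0 = 0 := by
    rw [act_none] at h1
    by_contra hc
    rw [if_neg hc] at h1
    exact Option.some_ne_none _ h1
  rw [act_some] at h2 h3
  have hd : g 1 1 ≠ 0 := fun e => by simp [e] at h2
  simp only [hc, zero_mul, zero_add, hd, if_false, mul_zero, mul_one, Option.some.injEq] at h2 h3
  have hb : g 0 1 = 0 := (div_eq_zero_iff.1 h2).resolve_right hd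
  rw [hb, add_zero, div_eq_one_iff_eq hd] at h3
  exact ⟨hb, hc, h3⟩

theorem act_scalar {g : GL23} (hb : g 0 1 = 0) (hc : g 1 0 = 0) (he : g 0 0 = g 1 1) : act g = 1 := by
  have hd : g 1 1 ≠ 0 := fun e => g.det_ne_zero (by rw [Matrix.det_fin_two]; simp [he, e, hb])
  refine Equiv.ext fun p => ?_
  cases p with
  | none => rw [act_none, if_pos hc]; rfl
  | some x => simp [act_some, hb, hc, he, hd]

theorem ker_act : act.ker = Subgroup.center GL23 := by
  ext g
  rw [MonoidHom.mem_ker, Matrix.GeneralLinearGroup.center_eq_range_scalar, MonoidHom.mem_range]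
  constructor
  · intro h
    obtain ⟨hb, hc, he⟩ := scalar_of_fix (g := g) (by rw [h]; rfl) (by rw [h]; rfl) (by rw [h]; rfl)
    have hd : g 1 1 ≠ 0 := fun e => g.det_ne_zero (by rw [Matrix.det_fin_two]; simp [he, e, hb])
    refine ⟨Units.mk0 (g 1 1) hd, Units.ext (Matrix.ext fun i j => ?_)⟩
    fin_cases i <;> fin_cases j <;> simp [hb, hc, he]
  · rintro ⟨u, rfl⟩
    exact act_scalar (by simp) (by simp) (by simp)

theorem card_range_le : Nat.card act.range ≤ 12144 := by
  classical
  let T : Finset (GolayPt × GolayPt × GolayPt) :=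
    Finset.univ.filter fun p => p.1 ≠ p.2.1 ∧ p.1 ≠ p.2.2 ∧ p.2.1 ≠ p.2.2
  let f : ↥act.range → ↥T := fun σ =>
    ⟨((σ : Equiv.Perm GolayPt) none, (σ : Equiv.Perm GolayPt) (some 0), (σ : Equiv.Perm GolayPt) (some 1)), by
      simp [T, (σ : Equiv.Perm GolayPt).injective.eq_iff]⟩
  have hf : Function.Injective f := by
    rintro ⟨_, g, rfl⟩ ⟨_, h, rfl⟩ e
    simp only [f, Subtype.mk.injEq, Prod.mk.injEq] at e
    obtain ⟨e1, e2, e3⟩ := e
    have k : ∀ p, act g p = act h p → act (h⁻¹ * g) p = p := fun p e => by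
      rw [map_mul, map_inv, Equiv.Perm.mul_apply, e, ← Equiv.Perm.mul_apply, inv_mul_cancel, Equiv.Perm.one_apply]
    obtain ⟨a, b, c⟩ := scalar_of_fix (k _ e1) (k _ e2) (k _ e3)
    have := act_scalar a b c
    rw [map_mul, map_inv, inv_mul_eq_one] at this
    exact Subtype.ext this.symm
  refine (Nat.card_le_card_of_injective f hf).trans (le_of_eq ?_)
  rw [Nat.card_eq_fintype_card, Fintype.card_coe]
  show T.card = 12144
  decide +kernel

theorem range_act {σ : Equiv.Perm GolayPt} : σ ∈ act.range ↔ σ ∈ L ∨ σ * neg ∈ L := by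
  classical
  have hmul : ∀ {τ}, τ * neg ∈ L → τ ∈ act.range := fun {τ} h => by
    have := mul_mem (L_le_range h) neg_mem_range
    rwa [mul_assoc, neg_sq, mul_one] at this
  refine ⟨fun hσ => ?_, fun h => h.elim (fun h => L_le_range h) hmul⟩
  let S : Set (Equiv.Perm GolayPt) := {τ | τ ∈ L} ∪ {τ | τ * neg ∈ L}
  have hS : S.ncard = 12144 := by
    rw [Set.ncard_union_eq, show {τ | τ * neg ∈ L} = (· * neg) '' {τ | τ ∈ L} from ?_,
      Set.ncard_image_of_injective _ (mul_left_injective neg)]
    · have : {τ | τ ∈ L}.ncard = 6072 := by rw [← Nat.card_coe_set_eq]; exact card_L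
      omega
    · ext τ
      refine ⟨fun h => ⟨τ * neg, h, by show τ * neg * neg = τ; rw [mul_assoc, neg_sq, mul_one]⟩, ?_⟩
      rintro ⟨y, hy, rfl⟩
      show y * neg * neg ∈ L
      rwa [mul_assoc, neg_sq, mul_one]
    · rw [Set.disjoint_left]
      intro τ h1 h2
      refine neg_not_mem (L_le ?_)
      simpa using mul_mem (inv_mem (show τ ∈ L from h1)) h2
  have hsub : S ⊆ (act.range : Set (Equiv.Perm GolayPt)) := fun τ h => h.elim (fun h => L_le_range h) hmul
  have e := Set.eq_of_subset_of_ncard_le hsub
    (by rw [hS, ← Nat.card_coe_set_eq]; exact card_range_le) (Set.toFinite _)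
  have hσS : σ ∈ S := by rw [e]; exact hσ
  exact hσS

end Cfsg.Agent.J4PGL
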