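import Cfsg.Agent.Lib.J4V.Invol.Model
import Cfsg.Agent.Lib.J4PGL.Proj

/-!
# The two complements of the cocode as homomorphisms of `M24`

* `sec`: the section of the model;
* `sec'`: its twist by the cocycle of the point `0`.
-/

set_option autoImplicit false
set_option maxRecDepth 20000
set_option linter.style.haveILetI false
set_option linter.unusedSectionVars false

namespace Cfsg.Agent.J4PGL

open Subgroup
open Cfsg Cfsg.Agent.Golay.Basic Cfsg.Agent.Golay.Cert Cfsg.Agent.Golay.M24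
open Cfsg.Agent.J4Local Cfsg.Agent.J4Eleven
open Cfsg.Agent.J4V.Invol
open Cfsg.Agent.J4V.Invol.Checks (vx)
open Cfsg.Agent.J4V.Split (NV VN)

universe u

variable {G : Type u} [Group G] [Finite G] {z : G} {P : Subgroup G} {X : Chart z P} (M : Model X)

/-- The complement onto `M24`. -/
noncomputable def toM24 : ↥M.K →* ↥M24 := M.pr.comp (Subgroup.inclusion M.hK)

theorem toM24_bij : Function.Bijective (toM24 M) := by
  refine ⟨(injective_iff_map_eq_one _).2 fun k hk => Subtype.ext (M.inj k k.2 ?_), fun m => ?_⟩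
  · exact (Cfsg.Agent.M24CocodeSplit.Split.proj_eq_one (VN X.std) M.φ).1 hk
  · obtain ⟨k, hk, e⟩ := M.surj m
    exact ⟨⟨k, hk⟩, e⟩

/-- The section. -/
noncomputable def sec : ↥M24 →* G :=
  M.K.subtype.comp (MulEquiv.ofBijective (toM24 M) (toM24_bij M)).symm.toMonoidHom

theorem sec_mem (σ : ↥M24) : sec M σ ∈ NV X.std :=
  M.hK ((MulEquiv.ofBijective (toM24 M) (toM24_bij M)).symm σ).2

theorem pr_sec (σ : ↥M24) : M.pr ⟨sec M σ, sec_mem M σ⟩ = σ :=
  (MulEquiv.ofBijective (toM24 M) (toM24_bij M)).apply_symm_apply σ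

theorem sec_mem_MM (σ : ↥M24) : sec M σ ∈ normalizer (X.std : Set G) := sec_mem M σ

theorem sec_conj_pair (σ : ↥M24) {a b : ℕ} (ha : a < 24) (hb : b < 24) :
    sec M σ * M.iv (vx a b) * (sec M σ)⁻¹ =
      M.iv (vx (ix ((σ : Equiv.Perm GolayPt) (pt a))) (ix ((σ : Equiv.Perm GolayPt) (pt b)))) := by
  rw [M.conj_pair (sec_mem M σ) ha hb, Ident.im, Ident.im, pr_sec]

/-- The cocycle. -/
noncomputable def cyc (σ : ↥M24) : ℕ := vx 0 (ix ((σ : Equiv.Perm GolayPt) (pt 0)))

theorem cyc_mul (σ τ : ↥M24) : M.iv (cyc (σ * τ)) = M.iv (cyc σ) * (sec M σ * M.iv (cyc τ) * (sec M σ)⁻¹) := by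
  rw [show cyc τ = vx 0 (ix ((τ : Equiv.Perm GolayPt) (pt 0))) from rfl,
    sec_conj_pair M σ (by norm_num) (ix_lt _), pt_ix, ← M.iv_xor]
  congr 1
  show vx _ _ = vx _ _ ^^^ vx _ _
  have key : ∀ a b c : ℕ, a ^^^ b = a ^^^ c ^^^ (c ^^^ b) := fun a b c => by
    rw [Nat.xor_assoc, ← Nat.xor_assoc c, Nat.xor_self, Nat.zero_xor]
  rw [Subgroup.coe_mul, Equiv.Perm.mul_apply]
  exact key _ _ _

/-- The twisted section. -/
noncomputable def sec' : ↥M24 →* G :=
  MonoidHom.mk' (fun σ => M.iv (cyc σ) * sec M σ) fun σ τ => by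
    show M.iv (cyc (σ * τ)) * sec M (σ * τ) = _
    rw [cyc_mul, map_mul]; group

theorem sec'_apply (σ : ↥M24) : sec' M σ = M.iv (cyc σ) * sec M σ := rfl

theorem sec'_of_fix {σ : ↥M24} (h : (σ : Equiv.Perm GolayPt) (pt 0) = pt 0) : sec' M σ = sec M σ := by
  rw [sec'_apply, cyc, h, ix_pt (by norm_num), show vx 0 0 = 0 from Nat.xor_self _, M.iv_zero, one_mul]

theorem sec_injective : Function.Injective (sec M) :=
  M.K.subtype_injective.comp (MulEquiv.injective _)

theorem sec'_injective : Function.Injective (sec' M) := by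
  refine (injective_iff_map_eq_one _).2 fun σ h => ?_
  have hs : sec M σ ∈ X.std := by
    have : sec M σ = (M.iv (cyc σ))⁻¹ * sec' M σ := by rw [sec'_apply]; group
    rw [this, h, mul_one]; exact inv_mem (M.iv_mem _)
  refine sec_injective M ?_
  rw [map_one]
  exact M.inj _ ((MulEquiv.ofBijective (toM24 M) (toM24_bij M)).symm σ).2 hs

end Cfsg.Agent.J4PGL
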