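import Cfsg.Agent.Lib.J4Sylow.Eleven
import Cfsg.Agent.Lib.J4Sylow.LargeFinal

/-!
# Janko four type: an involution of the normaliser of a subgroup of order 23

* `card_core_v`: the odd core of the centraliser of an element of order eleven of `N(V)` has order 121;
* `exists_inverted`: the part inverted by `t` is cyclic of order eleven;
* `exists_inv`: an involution inverting `u` and commuting with `c`;
* `choice`: `w` or `t w` commutes with all the involutions commuting with `c`.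
-/

set_option autoImplicit false
set_option linter.style.haveILetI false
set_option linter.unusedSectionVars false

namespace Cfsg.Agent.J4PGL

open Subgroup Cfsg.Agent.J4Local Cfsg.Agent.J4Sylow
open scoped Pointwise

universe u

variable {G : Type u} [Group G] [Finite G] [IsSimpleGroup G] (hG : ¬ IsMulCommutative G)
  (hord : Nat.card G = order) {z : G} {P : Subgroup G} (X : J4Eleven.Chart z P) {c t : G}

include hG hord

/-- The core has order 121. -/
theorem card_core_v (V : VData X c t) {O : Subgroup G} (DO : CoreData c t O) : Nat.card O = 121 := by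
  classical
  obtain ⟨z', P', Y, u, U, v, t', hzz, hu, h11, D, V', hv⟩ := exists_setting hG hord X
  obtain ⟨O', DO'⟩ := V'.coreV hG hord X
  have hcard : Nat.card O = Nat.card O' := by
    have h1 := V.card_cent hG hord X DO
    have h2 := V'.card_cent hG hord X DO'
    rcases class_eleven hG hord X Y hu h11 D hzz V' hv V.order_v with h | h
    · exfalso
      obtain ⟨g, hg⟩ := isConj_iff.1 h.symm
      refine V.no_z hG hord X (hzz.trans (isConj_iff.2 ⟨g, rfl⟩)) ?_
      rw [← hg]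
      calc g * z' * g⁻¹ * (g * u * g⁻¹) = g * (z' * u) * g⁻¹ := by group
        _ = _ := by rw [(mem_HH.1 hu.1).symm]; group
    · obtain ⟨g, hg⟩ := isConj_iff.1 h
      have e : centralizer ({v} : Set G) = (centralizer ({c} : Set G)).map (MulAut.conj g).toMonoidHom := by
        have hg' : g⁻¹ * v * g = c := by rw [← hg]; group
        ext x
        constructor
        · intro hx
          refine ⟨g⁻¹ * x * g, mem_centralizer_singleton_iff.2 ?_, by simp [mul_assoc]⟩
          rw [← hg']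
          calc g⁻¹ * x * g * (g⁻¹ * v * g) = g⁻¹ * (x * v) * g := by group
            _ = _ := by rw [mem_centralizer_singleton_iff.1 hx]; group
        · rintro ⟨y, hy, rfl⟩
          refine mem_centralizer_singleton_iff.2 ?_
          show g * y * g⁻¹ * v = v * (g * y * g⁻¹)
          rw [← hg]
          calc g * y * g⁻¹ * (g * c * g⁻¹) = g * (y * c) * g⁻¹ := by group
            _ = _ := by rw [mem_centralizer_singleton_iff.1 hy]; group
      rw [e, card_map_of_injective (MulAut.conj g).injective] at h2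
      omega
  rw [hcard]
  have hodd := DO'.odd
  have hdiv : ∀ q, q.Prime → q ∣ Nat.card O' → q = 11 := fun q hq hd => by
    rcases cent_v_primes hG hord X Y hu h11 D hzz V' hv hq (hd.trans (card_dvd_of_le DO'.le)) with rfl | rfl
    · exact absurd hd hodd.not_two_dvd_nat
    · rfl
  haveI : Fact (Nat.Prime 11) := ⟨by norm_num⟩
  have hO0 : Nat.card O' ≠ 0 := Nat.card_pos.ne'
  obtain ⟨k, hk⟩ : ∃ k, Nat.card O' = 11 ^ k :=
    ⟨_, Nat.eq_prime_pow_of_unique_prime_dvd hO0 fun {q} hq hd => hdiv q hq hd⟩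
  have huO : u ∈ O' := by
    set C := centralizer ({v} : Set G)
    have huC : u ∈ C := mem_centralizer_singleton_iff.2 (mem_centralizer_singleton_iff.1 (D.le hv)).symm
    let N : Subgroup ↥C := O'.subgroupOf C
    haveI : N.Normal := ⟨fun x hx g => DO'.normal g g.2 x hx⟩
    have hidx : N.index = 2 := by
      have h1 := N.card_mul_index
      rw [Nat.card_congr (subgroupOfEquivOfLe DO'.le).toEquiv, V'.card_cent hG hord X DO'] at h1
      have : 0 < Nat.card O' := Nat.card_pos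
      nlinarith
    have h2 : orderOf (QuotientGroup.mk' N ⟨u, huC⟩) ∣ 11 := orderOf_dvd_of_pow_eq_one (by
      rw [← map_pow, show (⟨u, huC⟩ : ↥C) ^ 11 = 1 from Subtype.ext (h11 ▸ pow_orderOf_eq_one u), map_one])
    have h3 : orderOf (QuotientGroup.mk' N ⟨u, huC⟩) ∣ 2 := hidx ▸ orderOf_dvd_natCard _
    exact mem_subgroupOf.1 ((QuotientGroup.eq_one_iff (N := N) (⟨u, huC⟩ : ↥C)).1
      (orderOf_eq_one_iff.1 (Nat.eq_one_of_dvd_coprimes (by norm_num : Nat.Coprime 11 2) h2 h3)))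
  have hvu := v_not_u hG hord X Y hu h11 D hzz V' hv
  have hk2 : 2 ≤ k := by
    by_contra hcon
    have h1 : Nat.card O' ≤ 11 := by
      rw [hk]
      calc (11 : ℕ) ^ k ≤ 11 ^ 1 := Nat.pow_le_pow_right (by norm_num) (by omega)
        _ = 11 := by norm_num
    have e := eq_of_le_of_card_ge (Subgroup.zpowers_le.2 huO : zpowers u ≤ O') (by rw [Nat.card_zpowers, h11]; exact h1)
    exact hvu (e ▸ DO'.x_mem)
  have hf : (Nat.card G).factorization 11 = 3 :=
    Nat.pow_right_injective (show 2 ≤ 11 by norm_num)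
      ((core_card_sylow hG hord Y hu h11 D).symm.trans (card_core hG hord Y hu h11 D))
  have hk3 : k ≤ 3 := by
    have h : 11 ^ k ∣ Nat.card G := hk ▸ O'.card_subgroup_dvd_card
    exact hf ▸ ((by norm_num : Nat.Prime 11).pow_dvd_iff_le_factorization Nat.card_pos.ne').1 h
  rcases Nat.lt_or_ge k 3 with h | h
  · obtain rfl : k = 2 := by omega
    rw [hk]; norm_num
  exfalso
  obtain rfl : k = 3 := by omega
  let S : Sylow 11 G := Sylow.ofCard U (core_card_sylow hG hord Y hu h11 D)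
  let S' : Sylow 11 G := Sylow.ofCard O' (by rw [hk, hf])
  obtain ⟨g, hg⟩ := MulAction.exists_smul_eq G S' S
  have hU : U = O'.map (MulAut.conj g).toMonoidHom := by
    have := congrArg (fun S : Sylow 11 G => (S : Subgroup G)) hg
    simp only [S, S', Sylow.coe_ofCard] at this
    exact this.symm
  have hmem : g * v * g⁻¹ ∈ zpowers u := by
    refine center_core hG hord Y hu h11 D (hU ▸ ⟨v, DO'.x_mem, rfl⟩) fun b hb => ?_
    obtain ⟨b', hb', rfl⟩ := hU ▸ hb
    have e : b' * v = v * b' := mem_centralizer_singleton_iff.1 (DO'.le hb')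
    show g * v * g⁻¹ * (g * b' * g⁻¹) = g * b' * g⁻¹ * (g * v * g⁻¹)
    calc g * v * g⁻¹ * (g * b' * g⁻¹) = g * (v * b') * g⁻¹ := by group
      _ = _ := by rw [← e]; group
  obtain ⟨i, hi⟩ := mem_zpowers_iff.1 hmem
  refine V'.no_z hG hord X (hzz.trans (isConj_iff.2 ⟨g⁻¹, rfl⟩)) ?_
  have hc : z' * (g * v * g⁻¹) = g * v * g⁻¹ * z' := by
    rw [← hi]; exact ((show Commute z' u from (mem_HH.1 hu.1).symm).zpow_right i).eq
  calc g⁻¹ * z' * g⁻¹⁻¹ * v = g⁻¹ * (z' * (g * v * g⁻¹)) * g := by group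
    _ = _ := by rw [hc]; group

/-- The part of the core inverted by `t`. -/
theorem exists_inverted (V : VData X c t) {O : Subgroup G} (DO : CoreData c t O) :
    ∃ d : G, orderOf d = 11 ∧ d ∈ O ∧ t * d * t⁻¹ = d⁻¹ ∧
      ∀ o ∈ O, t * o * t⁻¹ = o⁻¹ → o ∈ zpowers d := by
  classical
  haveI : Fact (Nat.Prime 11) := ⟨by norm_num⟩
  have hc := card_core_v hG hord X V DO
  have hcomm : ∀ a ∈ O, ∀ b ∈ O, a * b = b * a := fun a ha b hb =>
    congrArg Subtype.val ((IsPGroup.isMulCommutative_of_card_eq_prime_sq (p := 11) (G := ↥O)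
      (by rw [hc]; norm_num)).is_comm.comm ⟨a, ha⟩ ⟨b, hb⟩)
  let R : Subgroup G :=
    { carrier := {o | o ∈ O ∧ t * o * t⁻¹ = o⁻¹}
      one_mem' := ⟨one_mem _, by group⟩
      mul_mem' := fun {a b} ha hb => ⟨mul_mem ha.1 hb.1, by
        rw [show t * (a * b) * t⁻¹ = t * a * t⁻¹ * (t * b * t⁻¹) by group, ha.2, hb.2, ← mul_inv_rev,
          hcomm b hb.1 a ha.1]⟩
      inv_mem' := fun {a} ha => ⟨inv_mem ha.1, by
        rw [show t * a⁻¹ * t⁻¹ = (t * a * t⁻¹)⁻¹ by group, ha.2]⟩ }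
  have hRO : R ≤ O := fun o ho => ho.1
  have hbot : ∀ o ∈ R, o ∈ zpowers c → o = 1 := by
    intro o ho hoc
    obtain ⟨k, rfl⟩ := mem_zpowers_iff.1 hoc
    have h1 : t * c ^ k * t⁻¹ = c ^ k := by
      rw [((show Commute t c from V.t_comm).zpow_right k).eq, mul_inv_cancel_right]
    have h2 : c ^ k * c ^ k = 1 := by
      have := h1.symm.trans ho.2
      calc c ^ k * c ^ k = (c ^ k)⁻¹ * c ^ k := by rw [← this]
        _ = 1 := inv_mul_cancel _
    have h3 : orderOf (c ^ k) ∣ 11 := orderOf_dvd_of_pow_eq_one (by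
      rw [← zpow_natCast, ← zpow_mul, mul_comm, zpow_mul, zpow_natCast, V.v_pow, one_zpow])
    have h4 : orderOf (c ^ k) ∣ 2 := orderOf_dvd_of_pow_eq_one (by rw [pow_two, h2])
    exact orderOf_eq_one_iff.1 (Nat.eq_one_of_dvd_coprimes (by norm_num : Nat.Coprime 11 2) h3 h4)
  obtain ⟨j, hj, hjR⟩ := (Nat.dvd_prime_pow (by norm_num : Nat.Prime 11)).1
    (show Nat.card R ∣ 11 ^ 2 by have := card_dvd_of_le hRO; rwa [hc] at this)
  have hne : R ≠ ⊥ := by
    intro e
    have hOc : O ≤ zpowers c := fun o ho => by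
      -- `o / t(o)` is inverted, so trivial
      have hto : t * o * t⁻¹ ∈ O := DO.normal t DO.i_mem o ho
      have hR : o * (t * o * t⁻¹)⁻¹ ∈ R := ⟨mul_mem ho (inv_mem hto), by
        rw [show t * (o * (t * o * t⁻¹)⁻¹) * t⁻¹ = t * o * t⁻¹ * (t * t * o * (t * t)⁻¹)⁻¹ by group,
          X.std_eleven.sq t V.t_mem.1]
        group⟩
      rw [e, mem_bot, mul_inv_eq_one] at hR
      exact DO.inter o ho (mul_inv_eq_iff_eq_mul.1 hR.symm).symm
    have := card_dvd_of_le hOc
    rw [hc, Nat.card_zpowers, V.order_v] at this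
    norm_num at this
  have hj1 : Nat.card R = 11 := by
    rw [hjR]
    rcases (show j = 0 ∨ j = 1 ∨ j = 2 by omega) with rfl | rfl | rfl
    · exact absurd (Subgroup.eq_bot_of_card_eq R (by rw [hjR, pow_zero])) hne
    · norm_num
    · exfalso
      have e := eq_of_le_of_card_ge hRO (by rw [hc, hjR]; norm_num)
      have hc1 : c = 1 := hbot c (e ▸ DO.x_mem) (mem_zpowers c)
      have := V.order_v
      rw [hc1, orderOf_one] at this
      norm_num at this
  obtain ⟨⟨d, hd⟩, hdo⟩ := exists_prime_orderOf_dvd_card' (G := ↥R) 11 (by rw [hj1])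
  rw [Subgroup.orderOf_mk] at hdo
  refine ⟨d, hdo, hd.1, hd.2, fun o ho h => ?_⟩
  rw [eq_of_le_of_card_ge (Subgroup.zpowers_le.2 hd : zpowers d ≤ R) (by rw [hj1, Nat.card_zpowers, hdo])]
  exact ⟨ho, h⟩

/-- An involution of the centraliser of `c` is `d ^ m * t`. -/
theorem invol_eq (V : VData X c t) {O : Subgroup G} (DO : CoreData c t O) {d : G}
    (hd : ∀ o ∈ O, t * o * t⁻¹ = o⁻¹ → o ∈ zpowers d) {i : G} (hi : i * i = 1) (hic : i * c = c * i)
    (hi1 : i ≠ 1) : ∃ m ∈ zpowers d, i = m * t := by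
  obtain ⟨o, ho, k, hk, rfl⟩ := DO.dec i (mem_centralizer_singleton_iff.2 hic)
  have hkM : k ∈ MM X ⊓ centralizer ({c} : Set G) :=
    ⟨X.centralizer_le_of_not_zt hG V.t_mem.1 V.t_mem.2.1 V.t_mem.2.2 hk.2, hk.1⟩
  have h1 := (MM X ⊓ centralizer ({c} : Set G)).orderOf_dvd_natCard hkM
  rw [V.card_cent_MM hG hord] at h1
  -- `k` is `t` times an element of order dividing eleven
  have hkt : k * t = t * k := mem_centralizer_singleton_iff.1 hk.2
  have htt : t * t = 1 := X.std_eleven.sq t V.t_mem.1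
  have hC : MM X ⊓ centralizer ({c} : Set G) = zpowers (t * c) := by
    symm
    have ho22 : orderOf (t * c) = 22 := by
      rw [(show Commute t c from V.t_comm).orderOf_mul_eq_mul_orderOf_of_coprime (by
        rw [V.t_order, V.order_v]; norm_num), V.t_order, V.order_v]
    refine eq_of_le_of_card_ge (Subgroup.zpowers_le.2 ⟨?_, ?_⟩) (by rw [V.card_cent_MM hG hord, Nat.card_zpowers, ho22])
    · exact mul_mem (std_le_MM X V.t_mem.1) V.mem
    · refine mem_centralizer_singleton_iff.2 ?_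
      rw [mul_assoc, ← mul_assoc c, ← V.t_comm, mul_assoc]
  rw [hC] at hkM
  obtain ⟨n, rfl⟩ := mem_zpowers_iff.1 hkM
  rw [(show Commute t c from V.t_comm).mul_zpow] at hi hi1 ⊢
  have hcn : c ^ n ∈ O := zpow_mem DO.x_mem n
  have ht : t ^ n = 1 ∨ t ^ n = t := by
    rw [← zpow_mod_orderOf, V.t_order]
    rcases Int.emod_two_eq_zero_or_one n with r | r
    · left; rw [show n % ((2 : ℕ) : ℤ) = 0 from r, zpow_zero]
    · right; rw [show n % ((2 : ℕ) : ℤ) = 1 from r, zpow_one]
  rcases ht with h | h <;> rw [h] at hi hi1 ⊢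
  · exfalso
    rw [one_mul] at hi hi1
    have h2 : orderOf (o * c ^ n) ∣ 2 := orderOf_dvd_of_pow_eq_one (by rw [pow_two, hi])
    rcases (Nat.dvd_prime Nat.prime_two).1 h2 with r | r
    · exact hi1 (orderOf_eq_one_iff.1 r)
    · exact DO.odd.not_two_dvd_nat (r ▸ O.orderOf_dvd_natCard (mul_mem ho hcn))
  · have e : o * (t * c ^ n) = o * c ^ n * t := by
      rw [((show Commute t c from V.t_comm).zpow_right n).eq, mul_assoc]
    rw [e] at hi ⊢
    refine ⟨_, hd _ (mul_mem ho hcn) ?_, rfl⟩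
    rw [inv_eq_of_mul_eq_one_right htt]
    refine eq_inv_of_mul_eq_one_right ?_
    rw [← hi]; group

include X in
/-- An involution inverting `u` and commuting with `c`. -/
theorem exists_inv {u : G} (hu : orderOf u = 23) (hcu : c * u * c⁻¹ = u ^ 2) :
    ∃ i : G, i * i = 1 ∧ i ≠ 1 ∧ i * c = c * i ∧ i * u * i⁻¹ = u⁻¹ := by
  classical
  haveI : Fact (Nat.Prime 23) := ⟨by norm_num⟩
  haveI : Fact (Nat.Prime 2) := ⟨Nat.prime_two⟩
  -- the involution
  obtain ⟨S, hS⟩ := exists_sylow_zpowers hord (p := 23) (by simp [bigs]) hu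
  obtain ⟨hCU, hNU⟩ := (large_primes hG hord X).1 S
  rw [hS] at hCU hNU
  obtain ⟨⟨s, hs⟩, hs2⟩ := exists_prime_orderOf_dvd_card' (G := ↥(normalizer (zpowers u : Set G))) 2
    (by rw [hNU]; norm_num)
  rw [Subgroup.orderOf_mk] at hs2
  have hss : s * s = 1 := by rw [← pow_two, ← hs2, pow_orderOf_eq_one]
  have hcentU : ∀ x : G, x * u = u * x → x ∈ zpowers u := fun x hx => by
    rw [← hCU]
    refine mem_centralizer_iff.2 fun y hy => ?_
    obtain ⟨k, rfl⟩ := mem_zpowers_iff.1 hy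
    exact ((show Commute x u from hx).zpow_right k).symm.eq
  obtain ⟨a, ha⟩ := mem_zpowers_iff.1
    (show s * u * s⁻¹ ∈ zpowers u from (mem_normalizer_iff.1 hs u).1 (mem_zpowers u))
  have hmod : ∀ {x y : ℤ}, u ^ x = u ^ y ↔ ((x : ZMod 23) = (y : ZMod 23)) := fun {x y} => by
    rw [zpow_eq_zpow_iff_modEq, hu, ZMod.intCast_eq_intCast_iff]
  have ha2 : (a : ZMod 23) = -1 := by
    have h : u ^ (a * a) = u ^ (1 : ℤ) := by
      rw [zpow_mul, ha, conj_zpow, ha, zpow_one]
      calc s * (s * u * s⁻¹) * s⁻¹ = s * s * u * (s * s)⁻¹ := by group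
        _ = u := by rw [hss]; group
    have h' := hmod.1 h
    push_cast at h'
    rcases mul_self_eq_one_iff.1 h' with r | r
    · exfalso
      have e : s * u = u * s := by
        have : u ^ a = u ^ (1 : ℤ) := hmod.2 (by rw [r]; simp)
        rw [ha, zpow_one, mul_inv_eq_iff_eq_mul] at this
        exact this
      have := (zpowers u).orderOf_dvd_natCard (hcentU s e)
      rw [hs2, Nat.card_zpowers, hu] at this
      norm_num at this
    · exact r
  have hsu : s * u * s⁻¹ = u⁻¹ := by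
    rw [← ha, ← zpow_neg_one]; exact hmod.2 (by rw [ha2]; simp)
  have hsuz : ∀ k : ℤ, s * u ^ k * s⁻¹ = u ^ (-k) := fun k => by rw [← conj_zpow, hsu, inv_zpow']
  obtain ⟨b, hb⟩ := mem_zpowers_iff.1 (hcentU (c * s * c⁻¹ * s⁻¹) (by
    have h24 : u ^ (24 : ℤ) = u := by
      conv_rhs => rw [← zpow_one u]
      exact hmod.2 (by push_cast; rfl)
    have e2 : c * u ^ (12 : ℤ) * c⁻¹ = u := by
      rw [← conj_zpow, hcu, ← zpow_natCast u 2, ← zpow_mul]
      exact h24
    have e1 : c⁻¹ * u * c = u ^ (12 : ℤ) := by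
      conv_lhs => rw [← e2]
      group
    have e3 : c * u ^ (-12 : ℤ) * c⁻¹ = u⁻¹ := by
      rw [← conj_zpow, zpow_neg, conj_zpow, e2]
    have h5 : c * s * c⁻¹ * u * (c * s * c⁻¹)⁻¹ = u⁻¹ := by
      calc c * s * c⁻¹ * u * (c * s * c⁻¹)⁻¹ = c * (s * (c⁻¹ * u * c) * s⁻¹) * c⁻¹ := by group
        _ = c * u ^ (-12 : ℤ) * c⁻¹ := by rw [e1, hsuz]
        _ = u⁻¹ := e3
    have h6 : s⁻¹ * u * s = u⁻¹ := by rw [inv_eq_of_mul_eq_one_right hss]; rwa [inv_eq_of_mul_eq_one_right hss] at hsu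
    calc c * s * c⁻¹ * s⁻¹ * u = c * s * c⁻¹ * (s⁻¹ * u * s) * s⁻¹ := by group
      _ = (c * s * c⁻¹ * u * (c * s * c⁻¹)⁻¹)⁻¹ * (c * s * c⁻¹ * s⁻¹) := by rw [h6]; group
      _ = _ := by rw [h5, inv_inv]))
  set i := u ^ (-b) * s with hidef
  have hii : i * i = 1 := by
    calc i * i = u ^ (-b) * (s * u ^ (-b) * s⁻¹) * (s * s) := by rw [hidef]; group
      _ = 1 := by rw [hsuz, hss, mul_one, ← zpow_add]; simp
  have hiu : i * u * i⁻¹ = u⁻¹ := by
    calc i * u * i⁻¹ = u ^ (-b) * (s * u * s⁻¹) * (u ^ (-b))⁻¹ := by rw [hidef]; group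
      _ = u⁻¹ := by rw [hsu]; group
  have hic : i * c = c * i := by
    have h : c * u ^ (-b) * c⁻¹ = u ^ (-b * 2) := by
      rw [← conj_zpow, hcu, ← zpow_natCast u 2, ← zpow_mul]
      congr 1; push_cast; ring
    have hb' : c * s * c⁻¹ = u ^ b * s := by rw [hb]; group
    symm
    calc c * i = (c * u ^ (-b) * c⁻¹) * (c * s * c⁻¹) * c := by rw [hidef]; group
      _ = i * c := by rw [h, hb', ← mul_assoc (u ^ (-b * 2)), ← zpow_add, hidef]; congr 3; ring
  have hi1 : i ≠ 1 := fun e => by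
    rw [e, inv_one, one_mul, mul_one] at hiu
    have := orderOf_dvd_of_pow_eq_one (x := u) (n := 2) (by rw [pow_two]; nth_rw 2 [hiu]; rw [mul_inv_cancel])
    rw [hu] at this
    norm_num at this
  exact ⟨i, hii, hi1, hic, hiu⟩

/-- `w` or `t * w` commutes with all the involutions commuting with `c`. -/
theorem choice (V : VData X c t) {w : G} (hww : w * w = 1) (hwc : w * c * w⁻¹ = c⁻¹) (hwt : w * t = t * w) :
    (∀ i : G, i * i = 1 → i * c = c * i → i ≠ 1 → i * w = w * i) ∨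
      ∀ i : G, i * i = 1 → i * c = c * i → i ≠ 1 → i * (t * w) = t * w * i := by
  classical
  obtain ⟨O, DO⟩ := V.coreV hG hord X
  obtain ⟨d, hd11, hdO, htd, hd⟩ := exists_inverted hG hord X V DO
  -- `w` normalises the core
  have hwinv : w⁻¹ = w := inv_eq_of_mul_eq_one_right hww
  have htt : t * t = 1 := X.std_eleven.sq t V.t_mem.1
  have hwC : ∀ x ∈ centralizer ({c} : Set G), w * x * w⁻¹ ∈ centralizer ({c} : Set G) := fun x hx => by
    have hxc : x * c⁻¹ = c⁻¹ * x := (show Commute x c from mem_centralizer_singleton_iff.1 hx).inv_right.eq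
    have hwc2 : w⁻¹ * c * w = c⁻¹ := by rw [hwinv]; rwa [hwinv] at hwc
    refine mem_centralizer_singleton_iff.2 ?_
    calc w * x * w⁻¹ * c = w * (x * (w⁻¹ * c * w)) * w⁻¹ := by group
      _ = w * (w⁻¹ * c * w * x) * w⁻¹ := by rw [hwc2, hxc]
      _ = _ := by group
  have hwO : ∀ x ∈ O, w * x * w⁻¹ ∈ O := fun x hx => by
    set C := centralizer ({c} : Set G)
    let N : Subgroup ↥C := O.subgroupOf C
    haveI : N.Normal := ⟨fun x hx g => DO.normal g g.2 x hx⟩
    have hidx : N.index = 2 := by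
      have h1 := N.card_mul_index
      rw [Nat.card_congr (subgroupOfEquivOfLe DO.le).toEquiv, V.card_cent hG hord X DO] at h1
      have : 0 < Nat.card O := Nat.card_pos
      nlinarith
    have h2 : orderOf (QuotientGroup.mk' N ⟨w * x * w⁻¹, hwC x (DO.le hx)⟩) ∣ Nat.card O :=
      orderOf_dvd_of_pow_eq_one (by
        rw [← map_pow, show (⟨w * x * w⁻¹, hwC x (DO.le hx)⟩ : ↥C) ^ Nat.card O = 1 from
          Subtype.ext (by
            show (w * x * w⁻¹) ^ Nat.card O = 1
            rw [conj_pow, orderOf_dvd_iff_pow_eq_one.1 (O.orderOf_dvd_natCard hx)]; group), map_one])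
    have h3 : orderOf (QuotientGroup.mk' N ⟨w * x * w⁻¹, hwC x (DO.le hx)⟩) ∣ 2 := hidx ▸ orderOf_dvd_natCard _
    exact mem_subgroupOf.1 ((QuotientGroup.eq_one_iff (N := N) (⟨w * x * w⁻¹, hwC x (DO.le hx)⟩ : ↥C)).1
      (orderOf_eq_one_iff.1 (Nat.eq_one_of_dvd_coprimes (Nat.coprime_two_right.2 DO.odd) h2 h3)))
  obtain ⟨q, hq⟩ := mem_zpowers_iff.1 (hd (w * d * w⁻¹) (hwO d hdO) (by
    calc t * (w * d * w⁻¹) * t⁻¹ = t * w * d * (t * w)⁻¹ := by group
      _ = w * t * d * (w * t)⁻¹ := by rw [hwt]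
      _ = w * (t * d * t⁻¹) * w⁻¹ := by group
      _ = _ := by rw [htd]; group))
  haveI : Fact (Nat.Prime 11) := ⟨by norm_num⟩
  have hqq : (q : ZMod 11) * q = 1 := by
    have h : d ^ (q * q) = d ^ (1 : ℤ) := by
      rw [zpow_mul, hq, conj_zpow, hq, zpow_one]
      calc w * (w * d * w⁻¹) * w⁻¹ = w * w * d * (w * w)⁻¹ := by group
        _ = d := by rw [hww]; group
    rw [zpow_eq_zpow_iff_modEq, hd11, ← ZMod.intCast_eq_intCast_iff] at h
    simpa using h
  have hfin : ∀ y : G, y * t = t * y → y * d * y⁻¹ = d →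
      ∀ i : G, i * i = 1 → i * c = c * i → i ≠ 1 → i * y = y * i := fun y hyt hyd i hii hic hi1 => by
    obtain ⟨m, hm, rfl⟩ := invol_eq hG hord X V DO hd hii hic hi1
    obtain ⟨l, rfl⟩ := mem_zpowers_iff.1 hm
    have : Commute y d := mul_inv_eq_iff_eq_mul.1 hyd
    rw [mul_assoc, ← hyt, ← mul_assoc, ← (this.zpow_right l).eq, mul_assoc]
  rcases mul_self_eq_one_iff.1 hqq with r | r
  · left
    refine hfin w hwt ?_
    rw [← hq]
    conv_rhs => rw [← zpow_one d]
    rw [zpow_eq_zpow_iff_modEq, hd11, ← ZMod.intCast_eq_intCast_iff, r, Int.cast_one]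
  · right
    refine hfin (t * w) (by rw [mul_assoc, hwt]) ?_
    have hwd : w * d * w⁻¹ = d⁻¹ := by
      rw [← hq, ← zpow_neg_one, zpow_eq_zpow_iff_modEq, hd11, ← ZMod.intCast_eq_intCast_iff, r]
      simp
    calc t * w * d * (t * w)⁻¹ = t * (w * d * w⁻¹) * t⁻¹ := by group
      _ = (t * d * t⁻¹)⁻¹ := by rw [hwd]; group
      _ = d := by rw [htd, inv_inv]

end Cfsg.Agent.J4PGL
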