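import Cfsg.Agent.Lib.J4PGL.Lift
import Cfsg.Agent.Lib.J4PGL.Local
import Cfsg.Agent.Lib.J4Order.Final

/-!
# Janko four type: a subgroup `PGL(2, 23)`

* `exists_pgl`.
-/

set_option autoImplicit false
set_option maxRecDepth 20000
set_option linter.style.haveILetI false
set_option linter.unusedSectionVars false

namespace Cfsg.Agent.J4PGL

open Subgroup
open Cfsg Cfsg.Agent.Golay.Basic Cfsg.Agent.Golay.Cert Cfsg.Agent.Golay.M24 Cfsg.Agent.Golay.PSL23
open Cfsg.Agent.J4Local Cfsg.Agent.J4Eleven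
open Cfsg.Agent.J4V.Invol
open Cfsg.Agent.J4V.Invol.Checks (vx)

universe u

/-- `transl` in `M24`. -/
noncomputable def trM : ↥M24 := ⟨transl, transl_mem⟩

/-- `projInv` in `M24`. -/
noncomputable def piM : ↥M24 := ⟨projInv, projInv_mem⟩

/-- The multiplier in `M24`. -/
noncomputable def mM : ↥M24 := ⟨mEl, (N_le mEl_mem_N).1⟩

theorem orderOf_trM : orderOf trM = 23 := by
  rw [trM, Subgroup.orderOf_mk]; exact orderOf_transl

theorem orderOf_mM : orderOf mM = 11 := by
  rw [mM, Subgroup.orderOf_mk]; exact orderOf_mEl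

theorem mEl_eq (p : GolayPt) : mEl p = Option.map (fun x : ZMod 23 => 2 * x) p := by
  cases p with
  | none => exact mEl_none
  | some x => exact mEl_some x

theorem piM_sq : piM * piM = 1 := by
  refine Subtype.ext (Equiv.ext fun p => ?_)
  have h : ∀ p : GolayPt, projInv (projInv p) = p := by decide +kernel
  exact h p

theorem piM_mM : piM * mM * piM⁻¹ = mM⁻¹ := by
  rw [inv_eq_of_mul_eq_one_right piM_sq]
  refine eq_inv_of_mul_eq_one_left (Subtype.ext (Equiv.ext fun p => ?_))
  show projInv (mEl (projInv (mEl p))) = p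
  have h : ∀ p : GolayPt, projInv (Option.map (fun x : ZMod 23 => 2 * x)
      (projInv (Option.map (fun x : ZMod 23 => 2 * x) p))) = p := by decide +kernel
  rw [mEl_eq, mEl_eq]
  exact h p

theorem mM_trM : mM * trM * mM⁻¹ = trM ^ 2 := by
  rw [mul_inv_eq_iff_eq_mul]
  refine Subtype.ext (Equiv.ext fun p => ?_)
  have ht : ∀ x : ZMod 23, transl (some x) = some (x + 1) := fun x => by
    have := (transl_pow 1).1 x; rwa [pow_one, Nat.cast_one] at this
  show mEl (transl p) = (transl ^ 2) (mEl p)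
  cases p with
  | none => rw [mEl_none, (transl_pow 2).2, show transl (none : GolayPt) = none from rfl, mEl_none]
  | some x => rw [ht, mEl_some, mEl_some, (transl_pow 2).1]; congr 1; push_cast; ring

theorem mEl_pow_mulP {v : (ZMod 23)ˣ} (h : IsSquare v) : ∃ k : ℕ, mulP v = mEl ^ k := by
  obtain ⟨w, rfl⟩ := h
  have key : ∀ w : ZMod 23, w ≠ 0 → ∃ k : Fin 11, (2 : ZMod 23) ^ (k : ℕ) = w * w := by decide +kernel
  obtain ⟨k, hk⟩ := key w (unit_ne w)
  refine ⟨k, Equiv.ext fun p => ?_⟩
  cases p with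
  | none => rw [mulP_none, (mEl_pow _).2]
  | some x => rw [mulP_some, (mEl_pow _).1, hk, Units.val_mul]

variable {G : Type u} [Group G]

/-- The lift of the projective group, from an involution acting as the negation. -/
theorem exists_lift (ψ : ↥M24 →* G) (hinj : Function.Injective ψ) {i : G} (hi : i * i = 1)
    (h1 : i * ψ trM * i⁻¹ = (ψ trM)⁻¹) (h2 : i * ψ piM = ψ piM * i) (h3 : i * ψ mM = ψ mM * i) :
    ∃ K : Subgroup G, Nonempty (↥K ≃* GL23 ⧸ center GL23) := by
  classical
  have hiinv : i⁻¹ = i := inv_eq_of_mul_eq_one_right hi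
  -- `i` acts as the negation on `L`
  have hL : ∀ σ (h : σ ∈ L), i * ψ ⟨σ, L_le h⟩ * i = ψ ⟨neg * σ * neg, L_le (neg_conj h)⟩ := by
    intro σ h
    induction h using Subgroup.closure_induction with
    | mem g hg =>
      rcases hg with (rfl | rfl) | ⟨v, hv, rfl⟩
      · simp only [neg_transl]
        conv_lhs => rw [← hiinv]; enter [1, 1]; rw [hiinv]
        exact h1.trans (map_inv ψ trM).symm
      · simp only [neg_projInv]
        show i * ψ piM * i = ψ piM
        rw [h2, mul_assoc, hi, mul_one]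
      · simp only [neg_mulP]
        obtain ⟨k, hk⟩ := mEl_pow_mulP hv
        have e : (⟨mulP v, mulP_mem hv⟩ : ↥M24) = mM ^ k := Subtype.ext hk
        show i * ψ (⟨mulP v, mulP_mem hv⟩ : ↥M24) * i = ψ ⟨mulP v, mulP_mem hv⟩
        rw [e, map_pow, ((show Commute i (ψ mM) from h3).pow_right k).eq, mul_assoc, hi, mul_one]
    | one =>
      simp only [mul_one, neg_sq]
      show i * ψ 1 * i = ψ 1
      rw [map_one, mul_one, hi]
    | mul a b ha hb iha ihb =>
      have e : (⟨a * b, L_le (mul_mem ha hb)⟩ : ↥M24) = ⟨a, L_le ha⟩ * ⟨b, L_le hb⟩ := rfl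
      have e' : (⟨neg * (a * b) * neg, L_le (neg_conj (mul_mem ha hb))⟩ : ↥M24) =
          ⟨neg * a * neg, L_le (neg_conj ha)⟩ * ⟨neg * b * neg, L_le (neg_conj hb)⟩ :=
        Subtype.ext (by
          show neg * (a * b) * neg = neg * a * neg * (neg * b * neg)
          simp only [mul_assoc, ← mul_assoc neg neg, neg_sq, one_mul])
      rw [e, e', map_mul, map_mul, ← iha, ← ihb]
      calc i * (ψ ⟨a, L_le ha⟩ * ψ ⟨b, L_le hb⟩) * i
          = i * ψ ⟨a, L_le ha⟩ * (i * i) * ψ ⟨b, L_le hb⟩ * i := by rw [hi]; group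
        _ = _ := by group
    | inv a ha iha =>
      have e : (⟨a⁻¹, L_le (inv_mem ha)⟩ : ↥M24) = ⟨a, L_le ha⟩⁻¹ := rfl
      have e' : (⟨neg * a⁻¹ * neg, L_le (neg_conj (inv_mem ha))⟩ : ↥M24) = ⟨neg * a * neg, L_le (neg_conj ha)⟩⁻¹ :=
        Subtype.ext (by
          show neg * a⁻¹ * neg = (neg * a * neg)⁻¹
          simp only [mul_inv_rev, neg_inv, mul_assoc])
      rw [e, e', map_inv, map_inv, ← iha]
      simp only [mul_inv_rev, hiinv, mul_assoc]
  let f : Equiv.Perm GolayPt → G := fun σ =>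
    if h : σ ∈ L then ψ ⟨σ, L_le h⟩ else if h' : σ * neg ∈ L then ψ ⟨σ * neg, L_le h'⟩ * i else 1
  have fL : ∀ {σ} (h : σ ∈ L), f σ = ψ ⟨σ, L_le h⟩ := fun h => dif_pos h
  have notL : ∀ {σ}, σ ∈ L → σ * neg ∉ L := fun {σ} h h' =>
    neg_not_mem (L_le (by simpa using mul_mem (inv_mem h) h'))
  have fN : ∀ {σ} (h : σ * neg ∈ L), f σ = ψ ⟨σ * neg, L_le h⟩ * i := fun {σ} h => by
    have hn : σ ∉ L := fun h' => notL h' h
    simp only [f, dif_neg hn, dif_pos h]
  have fneg : ∀ {a} (h : a ∈ L), f (a * neg) = ψ ⟨a, L_le h⟩ * i := fun {a} h => by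
    have h' : a * neg * neg ∈ L := by rwa [mul_assoc, neg_sq, mul_one]
    rw [fN h']
    congr 2; exact Subtype.ext (by show a * neg * neg = a; rw [mul_assoc, neg_sq, mul_one])
  have fmul : ∀ a ∈ L, ∀ b ∈ L, f (a * b) = f a * f b := fun a ha b hb => by
    rw [fL (mul_mem ha hb), fL ha, fL hb, ← map_mul]; rfl
  have split : ∀ σ ∈ act.range, ∃ a ∈ L, σ = a ∨ σ = a * neg := fun σ h =>
    (range_act.1 h).elim (fun h => ⟨σ, h, Or.inl rfl⟩)
      fun h => ⟨σ * neg, h, Or.inr (by rw [mul_assoc, neg_sq, mul_one])⟩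
  let F' : ↥act.range →* G := MonoidHom.mk' (fun σ => f σ) (by
    rintro ⟨σ, hσ⟩ ⟨τ, hτ⟩
    show f (σ * τ) = f σ * f τ
    obtain ⟨a, ha, ea⟩ := split σ hσ
    obtain ⟨b, hb, eb⟩ := split τ hτ
    have hb' := neg_conj hb
    have hconj : i * ψ ⟨b, L_le hb⟩ = ψ ⟨neg * b * neg, L_le hb'⟩ * i := by
      rw [← hL b hb, mul_assoc, hi, mul_one]
    rcases ea with rfl | rfl <;> rcases eb with rfl | rfl
    · exact fmul _ ha _ hb
    · rw [← mul_assoc, fneg (mul_mem ha hb), fL ha, fneg hb, ← mul_assoc, ← map_mul]; rfl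
    · rw [show a * neg * τ = a * (neg * τ * neg) * neg by simp only [mul_assoc, neg_sq, mul_one],
        fneg (mul_mem ha hb'), fneg ha, fL hb, mul_assoc (ψ ⟨a, L_le ha⟩), hconj, ← mul_assoc (ψ ⟨a, L_le ha⟩), ← map_mul]; rfl
    · rw [show a * neg * (b * neg) = a * (neg * b * neg) by simp only [mul_assoc],
        fL (mul_mem ha hb'), fneg ha, fneg hb, show ψ ⟨a, L_le ha⟩ * i * (ψ ⟨b, L_le hb⟩ * i) =
          ψ ⟨a, L_le ha⟩ * (i * ψ ⟨b, L_le hb⟩) * i by group, hconj,
        show ψ ⟨a, L_le ha⟩ * (ψ ⟨neg * b * neg, L_le hb'⟩ * i) * i =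
          ψ ⟨a, L_le ha⟩ * ψ ⟨neg * b * neg, L_le hb'⟩ * (i * i) by group, hi, mul_one, ← map_mul]
      rfl)
  have hFinj : Function.Injective F' := by
    refine (injective_iff_map_eq_one _).2 ?_
    rintro ⟨σ, hσ⟩ (h : f σ = 1)
    obtain ⟨a, ha, e⟩ := split σ hσ
    rcases e with rfl | rfl
    · rw [fL ha] at h
      refine Subtype.ext ?_
      have e : (⟨σ, L_le ha⟩ : ↥M24) = 1 := hinj (h.trans (map_one ψ).symm)
      show σ = 1
      exact congrArg (fun x : ↥M24 => (x : Equiv.Perm GolayPt)) e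
    · exfalso
      rw [fneg ha] at h
      have hia : i = ψ ⟨a, L_le ha⟩⁻¹ := by rw [map_inv]; exact eq_inv_of_mul_eq_one_right h
      have e2 : (⟨a, L_le ha⟩ : ↥M24)⁻¹ * trM * ⟨a, L_le ha⟩ = trM⁻¹ := hinj (by
        rw [map_mul, map_mul, map_inv, map_inv, ← h1, hia, map_inv, inv_inv])
      have e3 : a⁻¹ * transl * a = transl⁻¹ := congrArg Subtype.val e2
      -- then `a * neg` centralises `transl`, so lies in `M24`
      have hc : (a * neg)⁻¹ * transl * (a * neg) = transl := by
        rw [mul_inv_rev, neg_inv, show neg * a⁻¹ * transl * (a * neg) = neg * (a⁻¹ * transl * a) * neg by group, e3,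
          ← neg_transl]
        simp only [mul_assoc, neg_sq, mul_one, ← mul_assoc neg neg, one_mul]
      have hcomm : Commute (a * neg) transl := by
        have := congrArg ((a * neg) * ·) hc
        simp only [← mul_assoc, mul_inv_cancel, one_mul] at this
        show a * neg * transl = transl * (a * neg)
        rw [← this]; group
      have hfix : (a * neg) none = none := by
        by_contra hne
        obtain ⟨y, hy⟩ := Option.ne_none_iff_exists'.1 hne
        have e := congrArg (fun s : Equiv.Perm GolayPt => s none) hcomm.eq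
        simp only [Equiv.Perm.mul_apply, show transl (none : GolayPt) = none from rfl] at e
        rw [Equiv.Perm.mul_apply] at hy
        rw [hy] at e
        have := (transl_pow 1).1 y
        rw [pow_one, Nat.cast_one] at this
        rw [this, Option.some.injEq] at e
        exact one_ne_zero (left_eq_add.1 e)
      have h0 : (a * neg) (some 0) ≠ none := fun e0 => Option.some_ne_none _ ((a * neg).injective (e0.trans hfix.symm))
      obtain ⟨y, hy⟩ := Option.ne_none_iff_exists'.1 h0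
      have hpow : a * neg = transl ^ y.val := Equiv.ext fun p => by
        cases p with
        | none => rw [hfix, (transl_pow _).2]
        | some x =>
          have e1 : some x = (transl ^ x.val) (some 0) := by
            rw [(transl_pow _).1, ZMod.natCast_zmod_val, zero_add]
          rw [e1, ← Equiv.Perm.mul_apply, (hcomm.pow_right _).eq, Equiv.Perm.mul_apply, hy,
            (transl_pow _).1, ← Equiv.Perm.mul_apply, ← pow_add, (transl_pow _).1, Nat.cast_add,
            ZMod.natCast_zmod_val, ZMod.natCast_zmod_val, zero_add]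
      refine neg_not_mem ?_
      rw [show neg = a⁻¹ * (a * neg) by group, hpow]
      exact mul_mem (inv_mem (L_le ha)) (pow_mem transl_mem _)
  refine ⟨(F'.comp act.rangeRestrict).range, ⟨?_⟩⟩
  refine ((QuotientGroup.quotientKerEquivRange (F'.comp act.rangeRestrict)).symm).trans
    (QuotientGroup.quotientMulEquivOfEq ?_)
  rw [← ker_act, ← MonoidHom.comap_ker, (MonoidHom.ker_eq_bot_iff F').2 hFinj, MonoidHom.comap_bot,
    MonoidHom.ker_rangeRestrict]

variable [Finite G] [IsSimpleGroup G] {z : G} {P : Subgroup G}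

/-- The subgroup. -/
theorem exists_pgl (hG : ¬ IsMulCommutative G) (X : Chart z P) :
    ∃ K : Subgroup G, Nonempty (↥K ≃* GL23 ⧸ center GL23) := by
  obtain ⟨φ, ε, e1, e2, e3, e4, e5⟩ := X.exists_phi_eps hG
  obtain ⟨M⟩ := exists_model hG (⟨φ, ε, e1, e2, e3, e4, e5⟩ : Ident X)
  have hord := J4Order.card_eq hG X
  set c := sec M mM with hc
  have hc11 : orderOf c = 11 := by rw [hc, orderOf_injective _ (sec_injective M), orderOf_mM]
  obtain ⟨t', V⟩ := J4Sylow.exists_t hG X (sec_mem_MM M mM) hc11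
  set t := M.iv (vx 0 23) with ht
  have hfix0 : ((mM : ↥M24) : Equiv.Perm GolayPt) (pt 0) = pt 0 := by
    show mEl (some 0) = some 0; rw [mEl_some, mul_zero]
  have hfix23 : ((mM : ↥M24) : Equiv.Perm GolayPt) (pt 23) = pt 23 := mEl_none
  have htc : t * c = c * t := by
    have e := sec_conj_pair M mM (show 0 < 24 by norm_num) (show 23 < 24 by norm_num)
    rw [hfix0, hfix23, ix_pt (by norm_num), ix_pt (by norm_num), ← ht, mul_inv_eq_iff_eq_mul] at e
    exact e.symm
  have ht1 : t ≠ 1 := fun e => by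
    have hd : vx 0 23 < 2048 ∧ vx 0 23 ≠ 0 := by decide +kernel
    exact hd.2 (M.iv_inj hd.1 (by norm_num) (e.trans M.iv_zero.symm))
  have htt' : t = t' := by
    have hm : t ∈ zpowers t' := by
      rw [← V.fix]; exact ⟨M.iv_mem _, mem_centralizer_singleton_iff.2 htc⟩
    obtain ⟨k, hk⟩ := mem_zpowers_iff.1 hm
    rw [← zpow_mod_orderOf, V.t_order] at hk
    rcases Int.emod_two_eq_zero_or_one k with r | r
    · rw [show k % ((2 : ℕ) : ℤ) = 0 from r, zpow_zero] at hk
      exact absurd hk.symm ht1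
    · rw [show k % ((2 : ℕ) : ℤ) = 1 from r, zpow_one] at hk
      exact hk.symm
  subst htt'
  set w := sec M piM with hw
  have hww : w * w = 1 := by rw [hw, ← map_mul, piM_sq, map_one]
  have hwc : w * c * w⁻¹ = c⁻¹ := by rw [hw, hc, ← map_inv, ← map_mul, ← map_mul, piM_mM, map_inv]
  have hwt : w * t = t * w := by
    have e := sec_conj_pair M piM (show 0 < 24 by norm_num) (show 23 < 24 by norm_num)
    have h0 : ((piM : ↥M24) : Equiv.Perm GolayPt) (pt 0) = pt 23 := by
      show projInv (pt 0) = pt 23; decide +kernel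
    have h23 : ((piM : ↥M24) : Equiv.Perm GolayPt) (pt 23) = pt 0 := by
      show projInv (pt 23) = pt 0; decide +kernel
    rw [h0, h23, ix_pt (by norm_num), ix_pt (by norm_num), show vx 23 0 = vx 0 23 from Nat.xor_comm _ _,
      ← ht, ← hw, mul_inv_eq_iff_eq_mul] at e
    exact e
  have hpiM : sec' M piM = t * w := by
    rw [sec'_apply, cyc, show ((piM : ↥M24) : Equiv.Perm GolayPt) (pt 0) = pt 23 from by
      show projInv (pt 0) = pt 23; decide +kernel, ix_pt (by norm_num)]
  -- one of the two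
  obtain ⟨ψ, hψ, hψm, hψw⟩ : ∃ ψ : ↥M24 →* G, Function.Injective ψ ∧ ψ mM = c ∧
      ∀ i : G, i * i = 1 → i * c = c * i → i ≠ 1 → i * ψ piM = ψ piM * i := by
    rcases choice hG hord X V hww hwc hwt with h | h
    · exact ⟨sec M, sec_injective M, rfl, h⟩
    · refine ⟨sec' M, sec'_injective M, sec'_of_fix M hfix0, fun i a b d => ?_⟩
      rw [hpiM]; exact h i a b d
  obtain ⟨i, hii, hi1, hic, hiu⟩ := exists_inv (c := c) hG hord X (u := ψ trM)
    (by rw [orderOf_injective _ hψ, orderOf_trM])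
    (by rw [← hψm, ← map_inv, ← map_mul, ← map_mul, mM_trM, map_pow])
  exact exists_lift ψ hψ hii hiu (hψw i hii hic hi1) (by rw [hψm]; exact hic)

end Cfsg.Agent.J4PGL
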